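import Mathlib

/-!
Groups with a normal Sylow `p`-subgroup with cyclic quotient, and coprime actions on cyclic
`p`-groups.
-/

set_option autoImplicit false
set_option linter.style.haveILetI false

open scoped Pointwise

namespace CfsgLib.PByCyclic

variable {G : Type*} [Group G]

theorem conj_zpow_mul {y d : G} {a : ℤ} (h : y * d * y⁻¹ = d ^ a) :
    ∀ k : ℕ, y ^ k * d * (y ^ k)⁻¹ = d ^ (a ^ k) := by
  intro k
  induction k with
  | zero => simp
  | succ k ih =>
    calc y ^ (k + 1) * d * (y ^ (k + 1))⁻¹ = y * (y ^ k * d * (y ^ k)⁻¹) * y⁻¹ := by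
          rw [pow_succ']; group
      _ = y * d ^ (a ^ k) * y⁻¹ := by rw [ih]
      _ = (y * d * y⁻¹) ^ (a ^ k) := conj_zpow.symm
      _ = d ^ (a ^ (k + 1)) := by rw [h, ← zpow_mul, pow_succ']

/-- An element of order prime to `p` normalizing a cyclic `p`-subgroup and fixing an element of
order `p` of it centralizes it. -/
theorem commute_of_fix {p : ℕ} [hp : Fact p.Prime] {y d q : G} {m : ℕ} (hd : orderOf d = p ^ m)
    (hy : (orderOf y).Coprime p) (hn : y * d * y⁻¹ ∈ Subgroup.zpowers d)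
    (hq : q ∈ Subgroup.zpowers d) (hqp : orderOf q = p) (hfix : Commute y q) : Commute y d := by
  obtain ⟨a, ha⟩ := Subgroup.mem_zpowers_iff.mp hn
  obtain ⟨j, hj⟩ := Subgroup.mem_zpowers_iff.mp hq
  have hqa : q ^ a = q := by
    calc q ^ a = (d ^ a) ^ j := by rw [← hj, ← zpow_mul, ← zpow_mul, mul_comm]
      _ = (y * d * y⁻¹) ^ j := by rw [ha]
      _ = y * d ^ j * y⁻¹ := conj_zpow
      _ = q := by rw [hj, hfix.eq, mul_inv_cancel_right]
  have hpa : (p : ℤ) ∣ a - 1 := by
    rw [← hqp, orderOf_dvd_iff_zpow_eq_one, zpow_sub, hqa, zpow_one, mul_inv_cancel]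
  have h1 : ((p ^ m : ℕ) : ℤ) ∣ a ^ p ^ m - 1 := by
    have := dvd_sub_pow_of_dvd_sub (R := ℤ) hpa m
    rw [one_pow, pow_succ] at this
    exact_mod_cast dvd_of_mul_right_dvd this
  have h2 : ((p ^ m : ℕ) : ℤ) ∣ a ^ orderOf y - 1 := by
    rw [← hd, orderOf_dvd_iff_zpow_eq_one, zpow_sub, zpow_one, ← conj_zpow_mul ha.symm,
      pow_orderOf_eq_one]
    group
  rw [← ZMod.intCast_zmod_eq_zero_iff_dvd, Int.cast_sub, Int.cast_one, Int.cast_pow, sub_eq_zero]
    at h1 h2
  have h3 : ((a : ℤ) : ZMod (p ^ m)) = 1 := by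
    rw [← orderOf_eq_one_iff]
    exact Nat.eq_one_of_dvd_coprimes (hy.pow_right m) (orderOf_dvd_of_pow_eq_one h2)
      (orderOf_dvd_of_pow_eq_one h1)
  have h4 : ((p ^ m : ℕ) : ℤ) ∣ a - 1 := by
    rw [← ZMod.intCast_zmod_eq_zero_iff_dvd, Int.cast_sub, Int.cast_one, sub_eq_zero]
    exact h3
  rw [← hd, orderOf_dvd_iff_zpow_eq_one, zpow_sub, ha, zpow_one, mul_inv_eq_one] at h4
  exact mul_inv_eq_iff_eq_mul.mp h4

variable [Finite G]

/-- Decomposition of a subgroup with normal Sylow `p`-subgroup and cyclic quotient. -/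
theorem decompose {p : ℕ} [hp : Fact p.Prime] (H : Subgroup G)
    (h1 : ∀ S : Sylow p ↥H, (S : Subgroup ↥H).Normal)
    (h2 : ∀ (S : Sylow p ↥H) [(S : Subgroup ↥H).Normal], IsCyclic (↥H ⧸ (S : Subgroup ↥H))) :
    ∃ (S : Subgroup G) (l : G), S ≤ H ∧ l ∈ H ∧ IsPGroup p S ∧ (orderOf l).Coprime p ∧
      l ∈ Subgroup.normalizer (S : Set G) ∧ S ⊔ Subgroup.zpowers l = H ∧
      Nat.card H = Nat.card S * orderOf l := by
  obtain ⟨S⟩ := (inferInstance : Nonempty (Sylow p H))
  haveI := h1 S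
  haveI := h2 S
  have hcop : (Nat.card (S : Subgroup H)).Coprime (S : Subgroup H).index := by
    obtain ⟨n, hn⟩ := S.2.exists_card_eq
    rw [hn]
    exact (hp.out.coprime_iff_not_dvd.mpr S.not_dvd_index).pow_left n
  obtain ⟨L, hL⟩ := Subgroup.exists_right_complement'_of_coprime hcop
  haveI : IsCyclic L := by
    refine isCyclic_of_injective ((QuotientGroup.mk' (S : Subgroup H)).comp L.subtype) ?_
    rw [← MonoidHom.ker_eq_bot_iff, Subgroup.eq_bot_iff_forall]
    intro x hx
    have h : (x : H) ∈ (S : Subgroup H) ⊓ L := ⟨(QuotientGroup.eq_one_iff _).mp hx, x.2⟩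
    rw [hL.disjoint.eq_bot, Subgroup.mem_bot] at h
    exact Subtype.ext h
  obtain ⟨l, hl⟩ := IsCyclic.exists_generator (α := L)
  have hol : orderOf ((l : H) : G) = Nat.card L := by
    rw [Subgroup.orderOf_coe, Subgroup.orderOf_coe, orderOf_eq_card_of_forall_mem_zpowers hl]
  have hzL : Subgroup.zpowers (l : H) = L := by
    refine le_antisymm (Subgroup.zpowers_le.mpr l.2) fun x hx => ?_
    obtain ⟨k, hk⟩ := Subgroup.mem_zpowers_iff.mp (hl ⟨x, hx⟩)
    exact ⟨k, congrArg Subtype.val hk⟩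
  refine ⟨(S : Subgroup H).map H.subtype, ((l : H) : G), Subgroup.map_subtype_le _, (l : H).2,
    S.2.map _, ?_, ?_, ?_, ?_⟩
  · rw [hol, ← hL.symm.index_eq_card]
    exact (hp.out.coprime_iff_not_dvd.mpr S.not_dvd_index).symm
  · refine Subgroup.le_normalizer_map H.subtype (Subgroup.mem_map_of_mem _ ?_)
    rw [Subgroup.normalizer_eq_top]
    trivial
  · have h3 : Subgroup.zpowers ((l : H) : G) = L.map H.subtype := by
      conv_rhs => rw [← hzL, MonoidHom.map_zpowers]
      rfl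
    rw [h3, ← Subgroup.map_sup, hL.sup_eq_top, ← MonoidHom.range_eq_map, Subgroup.range_subtype]
  · rw [hol, Subgroup.card_map_of_injective H.subtype_injective, hL.card_mul]

theorem isCyclic_of_commute {p : ℕ} [hp : Fact p.Prime] {H S : Subgroup G} {l : G} [IsCyclic S]
    (hS : IsPGroup p S) (hl : (orderOf l).Coprime p) (hSH : S ≤ H) (hlH : l ∈ H)
    (hc : ∀ s ∈ S, Commute l s) (hcard : Nat.card H = Nat.card S * orderOf l) : IsCyclic H := by
  obtain ⟨s, hs⟩ := IsCyclic.exists_generator (α := S)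
  obtain ⟨n, hn⟩ := hS.exists_card_eq
  refine isCyclic_of_orderOf_eq_card (⟨(s : G) * l, H.mul_mem (hSH s.2) hlH⟩ : H) ?_
  rw [Subgroup.orderOf_mk, hcard, ← orderOf_eq_card_of_forall_mem_zpowers hs, ← Subgroup.orderOf_coe]
  refine (hc s s.2).symm.orderOf_mul_eq_mul_orderOf_of_coprime ?_
  rw [Subgroup.orderOf_coe, orderOf_eq_card_of_forall_mem_zpowers hs, hn]
  exact (hl.pow_right n).symm

theorem eq_of_zpowers_sup {H S : Subgroup G} {l : G} (hgen : S ⊔ Subgroup.zpowers l = H)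
    (hl : l = 1) : H = S := by
  rw [← hgen, hl, Subgroup.zpowers_one_eq_bot, sup_bot_eq]

/-- Subgroups of a cyclic subgroup are determined by their order. -/
theorem eq_of_card_eq_in_cyclic {W H K : Subgroup G} [IsCyclic W] (hH : H ≤ W)
    (hK : K ≤ W) (hc : Nat.card H = Nat.card K) : H = K := by
  classical
  haveI := Fintype.ofFinite W
  have key : ∀ L : Subgroup G, L ≤ W → Nat.card L = Nat.card H →
      (Finset.univ.filter fun x : W => (x : G) ∈ L) =
      Finset.univ.filter fun x : W => x ^ Nat.card H = 1 := by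
    intro L hL hLc
    refine Finset.eq_of_subset_of_card_le (fun x hx => ?_) ?_
    · simp only [Finset.mem_filter, Finset.mem_univ, true_and] at hx ⊢
      refine Subtype.ext ?_
      have := pow_card_eq_one' (x := (⟨x, hx⟩ : L))
      rw [hLc] at this
      simpa using congrArg Subtype.val this
    · refine (IsCyclic.card_pow_eq_one_le Nat.card_pos).trans ?_
      rw [← Fintype.card_subtype, ← hLc, ← Nat.card_eq_fintype_card,
        ← Nat.card_congr (Subgroup.subgroupOfEquivOfLe hL).toEquiv]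
      rfl
  ext g
  have hKH := (key H hH rfl).trans (key K hK hc.symm).symm
  constructor <;> intro hg
  · have h1 : (⟨g, hH hg⟩ : W) ∈ (Finset.univ.filter fun x : W => (x : G) ∈ H) := by simp [hg]
    rw [hKH] at h1
    simpa using h1
  · have h1 : (⟨g, hK hg⟩ : W) ∈ (Finset.univ.filter fun x : W => (x : G) ∈ K) := by simp [hg]
    rw [← hKH] at h1
    simpa using h1

/-- `S⟨y⟩` has normal Sylow `p`-subgroup with cyclic quotient. -/
theorem hyps_sup {p : ℕ} [hp : Fact p.Prime] (S : Subgroup G) (hS : IsPGroup p S) {y : G}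
    (hy : (orderOf y).Coprime p) (hn : y ∈ Subgroup.normalizer (S : Set G)) :
    (∀ T : Sylow p ↥(S ⊔ Subgroup.zpowers y), (T : Subgroup ↥(S ⊔ Subgroup.zpowers y)).Normal) ∧
    ∀ (T : Sylow p ↥(S ⊔ Subgroup.zpowers y)) [(T : Subgroup ↥(S ⊔ Subgroup.zpowers y)).Normal],
      IsCyclic (↥(S ⊔ Subgroup.zpowers y) ⧸ (T : Subgroup ↥(S ⊔ Subgroup.zpowers y))) := by
  set H := S ⊔ Subgroup.zpowers y with hH
  haveI hSn : (S.subgroupOf H).Normal := Subgroup.normal_subgroupOf_of_le_normalizer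
    (sup_le Subgroup.le_normalizer (Subgroup.zpowers_le.mpr hn))
  have hsurj : Function.Surjective ((QuotientGroup.mk' (S.subgroupOf H)).comp
      (Subgroup.inclusion (le_sup_right : Subgroup.zpowers y ≤ H))) := by
    intro z
    obtain ⟨⟨u, hu⟩, rfl⟩ := QuotientGroup.mk'_surjective _ z
    have hu' : u ∈ (S : Set G) * (Subgroup.zpowers y : Set G) := by
      rw [← Subgroup.coe_mul_of_right_le_normalizer_left _ _ (Subgroup.zpowers_le.mpr hn)]
      exact hu
    obtain ⟨s, hs, t, ht, rfl⟩ := hu'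
    refine ⟨⟨t, ht⟩, ?_⟩
    rw [MonoidHom.comp_apply, QuotientGroup.mk'_eq_mk']
    refine ⟨⟨t⁻¹ * s * t, ?_⟩, ?_, Subtype.ext ?_⟩
    · exact H.mul_mem (H.mul_mem (H.inv_mem (Subgroup.mem_sup_right ht)) (Subgroup.mem_sup_left hs))
        (Subgroup.mem_sup_right ht)
    · change t⁻¹ * s * t ∈ S
      have := (Subgroup.mem_normalizer_iff.mp
        (Subgroup.inv_mem _ (Subgroup.zpowers_le.mpr hn ht)) s).mp hs
      simpa using this
    · change t * (t⁻¹ * s * t) = s * t
      group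
  have hidx : (S.subgroupOf H).index ∣ orderOf y := by
    rw [← Nat.card_zpowers, Subgroup.index_eq_card]
    exact Subgroup.card_dvd_of_surjective _ hsurj
  have hnd : ¬ p ∣ (S.subgroupOf H).index := fun hd =>
    (hp.out.coprime_iff_not_dvd.mp hy.symm) (hd.trans hidx)
  set P0 : Sylow p H := (hS.comap_of_injective _ H.subtype_injective).toSylow hnd
  haveI : Subsingleton (Sylow p H) := by
    haveI := Sylow.unique_of_normal P0 hSn
    infer_instance
  refine ⟨fun T => by rw [Subsingleton.elim T P0]; exact hSn, fun T hT => ?_⟩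
  haveI hcy : IsCyclic (↥H ⧸ S.subgroupOf H) := isCyclic_of_surjective _ hsurj
  exact isCyclic_of_surjective
    (QuotientGroup.quotientMulEquivOfEq (show S.subgroupOf H = (T : Subgroup H) by
      rw [Subsingleton.elim T P0]; rfl)).toMonoidHom (MulEquiv.surjective _)

end CfsgLib.PByCyclic
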